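import Mathlib
import Groth.Agent.Gor.KoszulBaseChange
import Groth.Agent.FlatNilp.Basic

/-!
Complexes of flat modules that become exact with flat cokernel modulo a square-zero ideal.
-/

set_option autoImplicit false
set_option linter.style.haveILetI false
universe u
open CategoryTheory TensorProduct

noncomputable section

namespace Groth.Agent.SqZeroKoszul

variable {A : Type u} [CommRing A] (J : Ideal A)

/-- `J ⊗ X → X`. -/
def incl (X : Type u) [AddCommGroup X] [Module A X] : J ⊗[A] X →ₗ[A] X :=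
  (TensorProduct.lid A X).toLinearMap ∘ₗ (Submodule.subtype J).rTensor X

/-- `X → A/J ⊗ X`. -/
def red (X : Type u) [AddCommGroup X] [Module A X] : X →ₗ[A] (A ⧸ J) ⊗[A] X :=
  (TensorProduct.mk A (A ⧸ J) X) 1

variable {X Y : Type u} [AddCommGroup X] [Module A X] [AddCommGroup Y] [Module A Y]

theorem incl_tmul (j : J) (x : X) : incl J X (j ⊗ₜ[A] x) = (j : A) • x := by simp [incl]

theorem red_surjective : Function.Surjective (red J X) := by
  intro t
  induction t using TensorProduct.induction_on with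
  | zero => exact ⟨0, map_zero _⟩
  | tmul q x =>
    obtain ⟨a, rfl⟩ := Ideal.Quotient.mk_surjective q
    refine ⟨a • x, ?_⟩
    show (1 : A ⧸ J) ⊗ₜ[A] (a • x) = _
    rw [← TensorProduct.smul_tmul, ← Ideal.Quotient.algebraMap_eq, Algebra.algebraMap_eq_smul_one]
  | add s t hs ht =>
    obtain ⟨x, rfl⟩ := hs
    obtain ⟨y, rfl⟩ := ht
    exact ⟨x + y, map_add _ _ _⟩

theorem red_eq_zero_iff (x : X) : red J X x = 0 ↔ x ∈ J • (⊤ : Submodule A X) := by
  rw [← (TensorProduct.quotTensorEquivQuotSMul X J).injective.eq_iff, map_zero]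
  show TensorProduct.quotTensorEquivQuotSMul X J ((1 : A ⧸ J) ⊗ₜ[A] x) = 0 ↔ _
  rw [← map_one (Ideal.Quotient.mk J), TensorProduct.quotTensorEquivQuotSMul_mk_tmul, one_smul,
    Submodule.Quotient.mk_eq_zero]

theorem range_incl : LinearMap.range (incl J X) = J • (⊤ : Submodule A X) := by
  refine le_antisymm ?_ (Submodule.smul_le.mpr fun r hr x _ => ⟨(⟨r, hr⟩ : J) ⊗ₜ[A] x, incl_tmul J _ _⟩)
  rintro _ ⟨t, rfl⟩
  induction t using TensorProduct.induction_on with
  | zero => simp
  | tmul j x => rw [incl_tmul]; exact Submodule.smul_mem_smul j.2 Submodule.mem_top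
  | add s t hs ht => rw [map_add]; exact add_mem hs ht

theorem red_eq_zero_iff_exists (x : X) : red J X x = 0 ↔ ∃ t, incl J X t = x := by
  rw [red_eq_zero_iff, ← range_incl]
  rfl

theorem incl_natural (f : X →ₗ[A] Y) (t : J ⊗[A] X) : f (incl J X t) = incl J Y (f.lTensor J t) := by
  induction t using TensorProduct.induction_on with
  | zero => simp
  | tmul j x => rw [LinearMap.lTensor_tmul, incl_tmul, incl_tmul, map_smul]
  | add s t hs ht => simp only [map_add, hs, ht]

theorem red_natural (f : X →ₗ[A] Y) (x : X) : f.lTensor (A ⧸ J) (red J X x) = red J Y (f x) := rfl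

theorem incl_injective [Module.Flat A X] : Function.Injective (incl J X) :=
  (TensorProduct.lid A X).injective.comp
    (Module.Flat.rTensor_preserves_injective_linearMap _ (Submodule.injective_subtype J))

/-- Exactness on `J ⊗ -` from exactness and flat cokernel modulo `J`, when `J² = 0`. -/
theorem exact_lTensor_ideal (hJ : J * J = ⊥) {X : ℤ → Type u} [∀ i, AddCommGroup (X i)] [∀ i, Module A (X i)]
    [∀ i, Module.Flat A (X i)] (d : ∀ i j, X i →ₗ[A] X j)
    (hred : ∀ i j k, i + 1 = j → j + 1 = k → j < 0 →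
      Function.Exact ((d i j).lTensor (A ⧸ J)) ((d j k).lTensor (A ⧸ J)))
    (hflat : Module.Flat (A ⧸ J) ((A ⧸ J) ⊗[A] (X 0 ⧸ LinearMap.range (d (-1) 0))))
    (i j k : ℤ) (hij : i + 1 = j) (hjk : j + 1 = k) (hj : j < 0) :
    Function.Exact ((d i j).lTensor J) ((d j k).lTensor J) := by
  have hJt : Module.IsTorsionBySet A J (J : Set A) := fun x r => Subtype.ext (by
    show (r : A) * (x : A) = 0
    rw [← Ideal.mem_bot, ← hJ]
    exact Ideal.mul_mem_mul r.2 x.2)
  letI := hJt.module
  haveI : IsScalarTower A (A ⧸ J) J := hJt.isScalarTower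
  let d' : ∀ i j, (A ⧸ J) ⊗[A] X i →ₗ[A ⧸ J] (A ⧸ J) ⊗[A] X j := fun i j => (d i j).baseChange (A ⧸ J)
  have h0 : Module.Flat (A ⧸ J) (((A ⧸ J) ⊗[A] X 0) ⧸ LinearMap.range (d' (-1) 0)) := by
    haveI := hflat
    let E := lTensor.equiv (A ⧸ J) (LinearMap.exact_map_mkQ_range (d (-1) 0)) (Submodule.mkQ_surjective _)
    let E' : (((A ⧸ J) ⊗[A] X 0) ⧸ LinearMap.range (d' (-1) 0)) ≃ₗ[A]
        (A ⧸ J) ⊗[A] (X 0 ⧸ LinearMap.range (d (-1) 0)) :=
      ((Submodule.Quotient.restrictScalarsEquiv A (LinearMap.range (d' (-1) 0))).symm.trans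
        (Submodule.quotEquivOfEq _ _ (by ext; rfl))).trans E
    exact Module.Flat.of_linearEquiv (E'.extendScalarsOfSurjective Ideal.Quotient.mk_surjective)
  have hex : ∀ i j k, i + 1 = j → j + 1 = k → j < 0 → Function.Exact (d' i j) (d' j k) := hred
  have h := Gor.KoszulBaseChange.exact_lTensor d' h0 hex J i j k hij hjk hj
  let e : ∀ i, J ⊗[A ⧸ J] ((A ⧸ J) ⊗[A] X i) ≃ₗ[A] J ⊗[A] X i := fun i =>
    (AlgebraTensorModule.cancelBaseChange A (A ⧸ J) (A ⧸ J) J (X i)).restrictScalars A
  have he : ∀ a b (t), (d a b).lTensor J (e a t) = e b ((d' a b).lTensor J t) := by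
    intro a b t
    induction t using TensorProduct.induction_on with
    | zero => simp
    | tmul x y =>
      induction y using TensorProduct.induction_on with
      | zero => simp
      | tmul s m => simp [e, d']
      | add u v hu hv => simp only [TensorProduct.tmul_add, map_add, hu, hv]
    | add u v hu hv => simp only [map_add, hu, hv]
  intro t
  obtain ⟨t, rfl⟩ := (e j).surjective t
  rw [he, map_eq_zero_iff _ (e k).injective, h t]
  constructor
  · rintro ⟨w, rfl⟩
    exact ⟨e i w, he _ _ _⟩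
  · rintro ⟨w, hw⟩
    obtain ⟨w, rfl⟩ := (e i).surjective w
    rw [he] at hw
    exact ⟨w, (e j).injective hw⟩

/-- A complex of flat modules, exact with flat cokernel modulo a square-zero ideal, is exact with flat cokernel. -/
theorem exact_and_flat (hJ : J * J = ⊥) {X : ℤ → Type u} [∀ i, AddCommGroup (X i)] [∀ i, Module A (X i)]
    [∀ i, Module.Flat A (X i)] (d : ∀ i j, X i →ₗ[A] X j)
    (hd : ∀ i j k, i + 1 = j → j + 1 = k → ∀ x, d j k (d i j x) = 0)
    (hred : ∀ i j k, i + 1 = j → j + 1 = k → j < 0 →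
      Function.Exact ((d i j).lTensor (A ⧸ J)) ((d j k).lTensor (A ⧸ J)))
    (hflat : Module.Flat (A ⧸ J) ((A ⧸ J) ⊗[A] (X 0 ⧸ LinearMap.range (d (-1) 0)))) :
    (∀ i j k, i + 1 = j → j + 1 = k → j < 0 → Function.Exact (d i j) (d j k)) ∧
      Module.Flat A (X 0 ⧸ LinearMap.range (d (-1) 0)) := by
  constructor
  · intro i j k hij hjk hj x
    refine ⟨fun hx => ?_, fun ⟨w, hw⟩ => hw ▸ hd i j k hij hjk w⟩
    obtain ⟨y, hy⟩ := (hred i j k hij hjk hj (red J _ x)).mp (by rw [red_natural, hx, map_zero])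
    obtain ⟨y, rfl⟩ := red_surjective J y
    rw [red_natural] at hy
    obtain ⟨t, ht⟩ := (red_eq_zero_iff_exists J (x - d i j y)).mp (by rw [map_sub, hy, sub_self])
    have h1 : (d j k).lTensor J t = 0 := incl_injective J (by
      rw [map_zero, ← incl_natural, ht, map_sub, hx, hd i j k hij hjk, sub_zero])
    obtain ⟨s, hs⟩ := (exact_lTensor_ideal J hJ d hred hflat i j k hij hjk hj t).mp h1
    exact ⟨y + incl J _ s, by rw [map_add, incl_natural, hs, ht, add_sub_cancel]⟩
  have hmul : ∀ a ∈ J, ∀ b ∈ J, b * a = 0 := fun a ha b hb => by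
    rw [← Ideal.mem_bot, ← hJ]
    exact Ideal.mul_mem_mul hb ha
  haveI := hflat
  refine FlatNilp.flat_of_flat_quotients J J hmul _ ?_
  suffices h : Function.Injective (incl J (X 0 ⧸ LinearMap.range (d (-1) 0))) by
    intro a b hab
    exact h (show TensorProduct.lid A _ _ = TensorProduct.lid A _ _ by rw [hab])
  rw [injective_iff_map_eq_zero]
  intro t ht
  obtain ⟨t, rfl⟩ := LinearMap.lTensor_surjective J (Submodule.mkQ_surjective (LinearMap.range (d (-1) 0))) t
  rw [← incl_natural, Submodule.mkQ_apply, Submodule.Quotient.mk_eq_zero] at ht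
  obtain ⟨y, hy⟩ := ht
  have h1 : (d (-1) 0).lTensor (A ⧸ J) (red J _ y) = 0 := by
    rw [red_natural, hy]
    exact (red_eq_zero_iff_exists J _).mpr ⟨t, rfl⟩
  obtain ⟨z, hz⟩ := (hred (-2) (-1) 0 (by norm_num) (by norm_num) (by norm_num) _).mp h1
  obtain ⟨z, rfl⟩ := red_surjective J z
  rw [red_natural] at hz
  obtain ⟨s, hs⟩ := (red_eq_zero_iff_exists J (y - d (-2) (-1) z)).mp (by rw [map_sub, hz, sub_self])
  have h2 : t = (d (-1) 0).lTensor J s := incl_injective J (by
    rw [← incl_natural, hs, map_sub, hd (-2) (-1) 0 (by norm_num) (by norm_num), sub_zero, hy])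
  rw [h2, ← LinearMap.lTensor_comp_apply, (LinearMap.exact_map_mkQ_range (d (-1) 0)).linearMap_comp_eq_zero,
    LinearMap.lTensor_zero]
  rfl

theorem red_map_iff {B X : Type u} [CommRing B] [Algebra A B] [AddCommGroup X] [Module A X] [Module B X]
    [IsScalarTower A B X] (x : X) :
    ((1 : B ⧸ J.map (algebraMap A B)) ⊗ₜ[B] x = 0) ↔ red J X x = 0 := by
  rw [red_eq_zero_iff]
  have h := red_eq_zero_iff (J.map (algebraMap A B)) x
  refine h.trans ?_
  rw [← Submodule.restrictScalars_mem A, Ideal.smul_restrictScalars, Submodule.restrictScalars_top]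

/-- EGA/SGA3: Koszul regularity and flatness lift along square-zero ideals. -/
theorem isKoszulRegularSeq_and_flat {B : Type u} [CommRing B] [Algebra A B] [Module.Flat A B] (hJ : J * J = ⊥)
    (rs : List B)
    (hreg : LCI.IsKoszulRegularSeq (B ⧸ J.map (algebraMap A B))
      (rs.map (Ideal.Quotient.mk (J.map (algebraMap A B)))))
    (hflat : Module.Flat (A ⧸ J) ((B ⧸ J.map (algebraMap A B)) ⧸
      Ideal.ofList (rs.map (Ideal.Quotient.mk (J.map (algebraMap A B)))))) :
    LCI.IsKoszulRegularSeq B rs ∧ Module.Flat A (B ⧸ Ideal.ofList rs) := by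
  let Kc := Koszul.koszul B rs
  letI : ∀ j, Module A (Kc.X j) := fun j => Module.compHom _ (algebraMap A B)
  haveI : ∀ j, IsScalarTower A B (Kc.X j) := fun j => IsScalarTower.of_compHom A B _
  haveI : ∀ j, Module.Flat A (Kc.X j) := fun j => by
    have : Module.Projective B (Kc.X j) :=
      (IsProjective.iff_projective (Kc.X j)).mpr (KoszulWiebe.projective_X rs j)
    exact Module.Flat.trans A B _
  let d : ∀ a b, Kc.X a →ₗ[A] Kc.X b := fun a b => (Kc.d a b).hom.restrictScalars A
  let C := B ⧸ J.map (algebraMap A B)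
  have hd : ∀ i j k, i + 1 = j → j + 1 = k → ∀ x, d j k (d i j x) = 0 := fun i j k _ _ x =>
    ConcreteCategory.congr_hom (Kc.d_comp_d i j k) x
  have hred : ∀ i j k, i + 1 = j → j + 1 = k → j < 0 →
      Function.Exact ((d i j).lTensor (A ⧸ J)) ((d j k).lTensor (A ⧸ J)) := by
    intro i j k hij hjk hj
    obtain ⟨e⟩ := KoszulWiebe.nonempty_koszulIso (algebraMap B C) rs
    have h1 := ((Koszul.koszul C (rs.map (algebraMap B C))).exactAt_iff_isZero_homology j).2 (hreg j (by omega))
    have h2 : ((((KoszulWiebe.ext (algebraMap B C)).mapHomologicalComplex (ComplexShape.up ℤ)).obj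
      (Koszul.koszul B rs)).ExactAt j) := h1.of_iso e.symm
    have h3 := KReg44.exact_lTensor_of_exactAt h2
    obtain rfl : i = (ComplexShape.up ℤ).prev j := by simp only [CochainComplex.prev]; omega
    obtain rfl : k = (ComplexShape.up ℤ).next j := by simp only [CochainComplex.next]; omega
    intro t
    obtain ⟨x, rfl⟩ := red_surjective J t
    rw [red_natural]
    constructor
    · intro hx
      have h4 := (red_map_iff (B := B) J (X := Kc.X ((ComplexShape.up ℤ).next j)) (d j _ x)).mpr hx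
      obtain ⟨y, hy⟩ := (h3 ((1 : C) ⊗ₜ[B] x)).mp h4
      obtain ⟨y, rfl⟩ := red_surjective (J.map (algebraMap A B)) y
      refine ⟨red J _ y, ?_⟩
      rw [red_natural, eq_comm, ← sub_eq_zero, ← map_sub, ← red_map_iff (B := B), TensorProduct.tmul_sub, sub_eq_zero]
      exact hy.symm
    · rintro ⟨w, hw⟩
      obtain ⟨w, rfl⟩ := red_surjective J w
      rw [← red_natural, ← hw, red_natural, red_natural, hd _ _ _ hij hjk, map_zero]
  obtain ⟨e₀⟩ := Gor.KoszulBaseChange.nonempty_quotient_range rs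
  let M := Kc.X 0 ⧸ LinearMap.range (d (-1) 0)
  let eM : M ≃ₗ[A] (B ⧸ Ideal.ofList rs) :=
    (Submodule.quotEquivOfEq _ _ (LinearMap.range_restrictScalars _).symm).trans
      ((Submodule.Quotient.restrictScalarsEquiv A _).trans (e₀.restrictScalars A).symm) |>.trans
        (LinearEquiv.refl A _)
  have hflat' : Module.Flat (A ⧸ J) ((A ⧸ J) ⊗[A] M) := by
    let I := Ideal.ofList rs
    let J' := J.map (algebraMap A B)
    let I' := Ideal.ofList (rs.map (Ideal.Quotient.mk J'))
    let φ : B ⧸ I →ₐ[A] C ⧸ I' :=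
      Ideal.Quotient.liftₐ I ((Ideal.Quotient.mkₐ A I').comp (Ideal.Quotient.mkₐ A J')) fun b hb => by
        refine Ideal.Quotient.eq_zero_iff_mem.mpr ?_
        show Ideal.Quotient.mk J' b ∈ I'
        rw [show I' = I.map (Ideal.Quotient.mk J') from (Ideal.map_ofList _ _).symm]
        exact Ideal.mem_map_of_mem _ hb
    have hφ : Function.Surjective φ := fun x => by
      obtain ⟨x, rfl⟩ := Ideal.Quotient.mk_surjective x
      obtain ⟨x, rfl⟩ := Ideal.Quotient.mk_surjective x
      exact ⟨Ideal.Quotient.mk I x, rfl⟩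
    have hk : LinearMap.ker φ.toLinearMap = J • (⊤ : Submodule A (B ⧸ I)) := by
      rw [Ideal.smul_top_eq_map]
      ext x
      obtain ⟨x, rfl⟩ := Ideal.Quotient.mk_surjective x
      rw [LinearMap.mem_ker]
      show Ideal.Quotient.mk I' (Ideal.Quotient.mk J' x) = 0 ↔
        Ideal.Quotient.mk I x ∈ J.map (algebraMap A (B ⧸ I))
      rw [Ideal.Quotient.eq_zero_iff_mem, show I' = I.map (Ideal.Quotient.mk J') from (Ideal.map_ofList _ _).symm,
        show algebraMap A (B ⧸ I) = (Ideal.Quotient.mk I).comp (algebraMap A B) from rfl, ← Ideal.map_map,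
        ← Ideal.mem_comap, ← Ideal.mem_comap, Ideal.comap_map_of_surjective _ Ideal.Quotient.mk_surjective,
        Ideal.comap_map_of_surjective _ Ideal.Quotient.mk_surjective, ← RingHom.ker_eq_comap_bot,
        ← RingHom.ker_eq_comap_bot, Ideal.mk_ker, Ideal.mk_ker, sup_comm]
    let E : ((A ⧸ J) ⊗[A] M) ≃ₗ[A] C ⧸ I' :=
      (TensorProduct.congr (LinearEquiv.refl A _) eM).trans
        ((TensorProduct.quotTensorEquivQuotSMul _ J).trans
          ((Submodule.quotEquivOfEq _ _ hk.symm).trans (φ.toLinearMap.quotKerEquivOfSurjective hφ)))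
    exact Module.Flat.of_linearEquiv (E.extendScalarsOfSurjective Ideal.Quotient.mk_surjective)
  obtain ⟨hex, hM⟩ := exact_and_flat J hJ d hd hred hflat'
  refine ⟨fun i hi => ?_, Module.Flat.of_linearEquiv eM.symm⟩
  rcases lt_or_gt_of_ne hi with hi | hi
  swap
  · exact HomologicalComplex.ExactAt.isZero_homology (CochainComplex.exactAt_of_isLE Kc 0 i hi)
  refine (Kc.exactAt_iff_isZero_homology i).1 ?_
  exact (ShortComplex.ShortExact.moduleCat_exact_iff_function_exact _).mpr
    (hex ((ComplexShape.up ℤ).prev i) i ((ComplexShape.up ℤ).next i) (by simp) (by simp) hi)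

end Groth.Agent.SqZeroKoszul
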